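import Groth.Agent.Amp73.Tensor
import Groth.Agent.EGA73.Invertible

/-!
A module with a tensor inverse is invertible.
-/

set_option autoImplicit false
universe u

open CategoryTheory CategoryTheory.Limits AlgebraicGeometry Opposite TopologicalSpace

noncomputable section

namespace Groth.Agent.Inv57

open Amp73 Var76.LineBundle Var76.ZeroScheme

variable {X : Scheme.{u}} {L N : X.Modules}

variable (e : CohB1.tensorMod L N ≅ Coh.structureModule X)

/-- The contraction given by `e`. -/
def ev {V : X.Opens} (m : Γ(L, V)) (n : Γ(N, V)) : Γ(X, V) := e.hom.app V (tm L N m n)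

theorem ev_add_left {V : X.Opens} (m m' : Γ(L, V)) (n : Γ(N, V)) : ev e (m + m') n = ev e m n + ev e m' n := by
  rw [ev, tm_add_left]; exact map_add (e.hom.app V).hom _ _

theorem ev_add_right {V : X.Opens} (m : Γ(L, V)) (n n' : Γ(N, V)) : ev e m (n + n') = ev e m n + ev e m n' := by
  rw [ev, tm_add_right]; exact map_add (e.hom.app V).hom _ _

theorem ev_smul_left {V : X.Opens} (c : Γ(X, V)) (m : Γ(L, V)) (n : Γ(N, V)) : ev e (c • m) n = c * ev e m n := by
  rw [ev, tm_smul_left, Scheme.Modules.Hom.app_smul]; rfl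

theorem ev_smul_right {V : X.Opens} (c : Γ(X, V)) (m : Γ(L, V)) (n : Γ(N, V)) : ev e m (c • n) = c * ev e m n := by
  rw [ev, tm_smul_right, Scheme.Modules.Hom.app_smul]; rfl

theorem ev_res {U V : X.Opens} (h : V ≤ U) (m : Γ(L, U)) (n : Γ(N, U)) :
    ev e (res L h m) (res N h n) = fres h (ev e m n) := by
  rw [ev, ← res_tm, Mero90.app_res]; rfl

/-- Locally the contraction takes the value one. -/
theorem exists_ev_eq_one (x : X) :
    ∃ (U : X.Opens) (l : Γ(L, U)) (n : Γ(N, U)), x ∈ U ∧ ev e l n = 1 := by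
  have hloc := (Mod48.isIso_shf_map_iff_isLocalIso (O := X.sheaf) (Mod48.shfU (CohB1.tensorPre L N))).mp
    inferInstance
  let one : Γ(Coh.structureModule X, (⊤ : X.Opens)) := (1 : Γ(X, ⊤))
  let s : Γ(CohB1.tensorMod L N, (⊤ : X.Opens)) := e.inv.app ⊤ one
  obtain ⟨W, i, ⟨z, hz⟩, hxW⟩ := hloc.surj.imageSieve_mem (U := (⊤ : X.Opens)) s x trivial
  have hs : e.hom.app W (res (CohB1.tensorMod L N) i.le s) = (1 : Γ(X, W)) := by
    rw [Mero90.app_res]
    have h2 : e.hom.app ⊤ s = one := by
      show (e.inv ≫ e.hom).app ⊤ one = one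
      rw [Iso.inv_hom_id]; rfl
    rw [h2]
    exact map_one (X.presheaf.map (homOfLE i.le).op).hom
  let Ψ : (CohB1.tensorPre L N).obj (op W) →+ Γ(X, W) :=
    AddMonoidHom.mk' (fun z => e.hom.app W ((Mod48.shfU (O := X.sheaf) (CohB1.tensorPre L N)).app (op W) z))
      fun a b => (congrArg _ (map_add _ _ _)).trans (map_add _ _ _)
  have hone : IsUnit (X.presheaf.germ W x hxW (Ψ z)) := by
    rw [show Ψ z = e.hom.app W (res (CohB1.tensorMod L N) i.le s) from congrArg _ hz, hs, map_one]
    exact isUnit_one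
  have hpair : ∀ z : (CohB1.tensorPre L N).obj (op W), IsUnit (X.presheaf.germ W x hxW (Ψ z)) →
      ∃ (m : Γ(L, W)) (n : Γ(N, W)), IsUnit (X.presheaf.germ W x hxW (ev e m n)) := by
    intro z
    induction z using TensorProduct.induction_on with
    | zero =>
      intro h
      replace h : IsUnit (X.presheaf.germ W x hxW (0 : Γ(X, W))) :=
        (congrArg (fun t => IsUnit (X.presheaf.germ W x hxW t)) Ψ.map_zero).mp h
      rw [map_zero] at h
      exact absurd h not_isUnit_zero
    | tmul m n => exact fun h => ⟨m, n, h⟩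
    | add a b ha hb =>
      intro h
      replace h : IsUnit (X.presheaf.germ W x hxW (Ψ a + Ψ b)) :=
        (congrArg (fun t => IsUnit (X.presheaf.germ W x hxW t)) (Ψ.map_add a b)).mp h
      rw [map_add] at h
      rcases IsLocalRing.isUnit_or_isUnit_of_isUnit_add h with h | h
      · exact ha h
      · exact hb h
  obtain ⟨m, n, hu⟩ := hpair z hone
  let U := X.basicOpen (ev e m n)
  have hle : U ≤ W := X.basicOpen_le _
  have hr : IsUnit (fres hle (ev e m n)) := RingedSpace.isUnit_res_basicOpen _ (ev e m n)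
  obtain ⟨v, hv⟩ := hr.exists_left_inv
  refine ⟨U, v • res L hle m, res N hle n, (X.mem_basicOpen _ x hxW).2 hu, ?_⟩
  rw [ev_smul_left, ev_res, hv]

theorem isFrame_of_ev_eq_one {U : X.Opens} {l : Γ(L, U)} {n : Γ(N, U)} (h : ev e l n = 1) :
    IsFrame L U l := by
  have hloc := (Mod48.isIso_shf_map_iff_isLocalIso (O := X.sheaf) (Mod48.shfU (CohB1.tensorPre L N))).mp
    inferInstance
  intro V hV
  have h1 : ev e (res L hV l) (res N hV n) = 1 := by
    rw [ev_res, h]
    exact map_one (X.presheaf.map (homOfLE hV).op).hom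
  constructor
  · intro a b hab
    dsimp only at hab
    have := congrArg (fun m => ev e m (res N hV n)) hab
    simpa [ev_smul_left, h1] using this
  · intro m
    let m' := m - ev e m (res N hV n) • res L hV l
    suffices hm' : m' = 0 from ⟨ev e m (res N hV n), (sub_eq_zero.1 hm').symm⟩
    have hev : ev e m' (res N hV n) = 0 := by
      have hsum := ev_add_left e m' (ev e m (res N hV n) • res L hV l) (res N hV n)
      rw [sub_add_cancel, ev_smul_left, h1, mul_one] at hsum
      exact (add_eq_right.1 hsum.symm)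
    have htm : tm L N m' (res N hV n) = 0 := by
      refine (ConcreteCategory.bijective_of_isIso (e.hom.app V)).1 ?_
      exact hev.trans (map_zero (e.hom.app V).hom).symm
    refine eq_of_locally _ _ _ fun x hx => ?_
    rw [tm_eq] at htm
    obtain ⟨W, i, hW, hxW⟩ := hloc.inj.equalizerSieve_mem _ (0 : (CohB1.tensorPre L N).obj (op V))
      (htm.trans (map_zero _).symm) x hx
    refine ⟨W, i.le, hxW, ?_⟩
    replace hW : (CohB1.tensorPre L N).map i.op (Mero90.tq m' (res N hV n)) = 0 :=
      hW.trans (map_zero _)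
    have hW' : Mero90.tq (res L i.le m') (res N (i.le.trans hV) n) = 0 := by
      refine Eq.trans ?_ hW
      refine Eq.trans ?_ (Mod48.map_tp (O := X.sheaf) (M := CohB1.toPMod L) (N := CohB1.toPMod N) i.op _ _).symm
      show _ = Mero90.tq (res L i.le m') (res N i.le (res N hV n))
      rw [res_res]
    let χ : (CohB1.toPMod N).obj (op W) →ₗ[X.sheaf.obj.obj (op W)] (X.sheaf.obj.obj (op W) : Type u) :=
      { toFun := fun p => ev e (res L (i.le.trans hV) l) (p : Γ(N, W))
        map_add' := fun p q => ev_add_right e _ (p : Γ(N, W)) q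
        map_smul' := fun c p => ev_smul_right e (c : Γ(X, W)) _ (p : Γ(N, W)) }
    let β : (CohB1.tensorPre L N).obj (op W) →ₗ[X.sheaf.obj.obj (op W)] (CohB1.toPMod L).obj (op W) :=
      (TensorProduct.rid (X.sheaf.obj.obj (op W)) ((CohB1.toPMod L).obj (op W))).toLinearMap.comp
        (TensorProduct.map LinearMap.id χ)
    have hβ : β (Mero90.tq (res L i.le m') (res N (i.le.trans hV) n)) = res L i.le m' := by
      show (ev e (res L (i.le.trans hV) l) (res N (i.le.trans hV) n)) • res L i.le m' = _
      rw [ev_res, h, show fres (i.le.trans hV) (1 : Γ(X, U)) = 1 from map_one _, one_smul]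
    rw [hW', map_zero] at hβ
    exact hβ.symm.trans (map_zero (L.presheaf.map (homOfLE i.le).op).hom).symm

theorem isInvertible_of_tensorMod_iso (e : CohB1.tensorMod L N ≅ Coh.structureModule X) :
    PicF.IsInvertible L := fun x => by
  obtain ⟨U, l, n, hx, h⟩ := exists_ev_eq_one e x
  exact ⟨U, hx, EGA73.nonempty_restrict_iso_unit L U l (isFrame_of_ev_eq_one e h)⟩

end Groth.Agent.Inv57
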